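import Groth.Agent.NeronCrit.Basic
import Groth.Agent.Hensel.HenselizationMore
import Groth.Agent.EtaleCrit.GenPoints
import Groth.Agent.S2451
import Mathlib.RingTheory.Smooth.Basic

/-!
# Points over strictly henselian extensions of ramification index one

The local ring of a smooth scheme at a generic point of the special fibre, and its strict henselization.
-/

set_option autoImplicit false
set_option linter.style.haveILetI false
set_option backward.isDefEq.respectTransparency false
set_option backward.isDefEq.respectTransparency.types false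
set_option synthInstance.maxHeartbeats 400000
set_option maxHeartbeats 1000000

universe u

open CategoryTheory CategoryTheory.Limits AlgebraicGeometry TopologicalSpace IsLocalRing
open scoped TensorProduct

noncomputable section

namespace Groth.Agent.NeronCrit

open Groth.Agent.SectionExt

variable {R : Type u} [CommRing R] [IsDomain R] [IsDiscreteValuationRing R]

/-- The maximal ideal of a localization of dimension one of a smooth algebra is generated by a uniformizer. -/
theorem map_maximalIdeal_localization (A : Type u) [CommRing A] [Algebra R A] [Algebra.Smooth R A]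
    (q : Ideal A) [q.IsPrime] (S : Type u) [CommRing S] [IsLocalRing S] [IsDomain S] [Algebra A S] [Algebra R S]
    [IsScalarTower R A S] [IsLocalization.AtPrime S q] [IsLocalHom (algebraMap R S)]
    (hdim : ringKrullDim S ≤ 1) : (maximalIdeal R).map (algebraMap R S) = maximalIdeal S := by
  let k := ResidueField R
  let I : Ideal A := (maximalIdeal R).map (algebraMap R A)
  haveI : Algebra.IsGeometricallyReduced k (k ⊗[R] A) := EtaleCrit.isGeometricallyReduced_of_smooth k _
  haveI : IsReduced (k ⊗[R] A) := Algebra.isReduced_of_isGeometricallyReduced (k := k)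
  haveI : IsReduced ((R ⧸ maximalIdeal R) ⊗[R] A) := ‹IsReduced (k ⊗[R] A)›
  have hI : I.IsRadical := by
    rw [Ideal.isRadical_iff_quotient_reduced]
    exact isReduced_of_injective (Algebra.TensorProduct.quotIdealMapEquivQuotTensor A (maximalIdeal R))
      (Algebra.TensorProduct.quotIdealMapEquivQuotTensor A (maximalIdeal R)).injective
  have hJ : (maximalIdeal R).map (algebraMap R S) = I.map (algebraMap A S) := by
    rw [Ideal.map_map, ← IsScalarTower.algebraMap_eq]
  have hflat : Module.Flat R S := by
    haveI : Module.Flat A S := IsLocalization.flat S q.primeCompl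
    exact Module.Flat.trans R A S
  have hinj : Function.Injective (algebraMap R S) := by
    haveI : Module.FaithfullyFlat R S := Module.FaithfullyFlat.of_flat_of_isLocalHom
    exact FaithfulSMul.algebraMap_injective R S
  haveI : Ring.KrullDimLE 1 S := Ring.krullDimLE_iff.2 hdim
  have hne : (maximalIdeal R).map (algebraMap R S) ≠ ⊥ := by
    rw [Ne, Ideal.map_eq_bot_iff_of_injective hinj]
    exact IsDiscreteValuationRing.not_a_field R
  have hle : (maximalIdeal R).map (algebraMap R S) ≤ maximalIdeal S :=
    Ideal.map_le_iff_le_comap.2 (le_of_eq (IsLocalRing.maximalIdeal_comap (algebraMap R S)).symm)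
  refine le_antisymm hle ?_
  have hrad : (I.map (algebraMap A S)).radical = I.map (algebraMap A S) := by
    rw [← IsLocalization.map_radical q.primeCompl, hI.radical]
  rw [hJ, ← hrad, Ideal.radical_eq_sInf]
  refine le_sInf fun P hP => ?_
  haveI := hP.2
  have hPne : P ≠ ⊥ := fun h => hne (le_bot_iff.1 (hJ.le.trans (hP.1.trans h.le)))
  exact (IsLocalRing.eq_maximalIdeal (hP.2.isMaximal_of_ne_bot hPne)).ge

/-- The residue field of an unramified formally smooth local extension is geometrically reduced. -/
theorem geometricallyReduced_residueField (T : Type u) [CommRing T] [IsLocalRing T] [Algebra R T]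
    [IsLocalHom (algebraMap R T)] [Algebra.FormallySmooth R T]
    (h : (maximalIdeal R).map (algebraMap R T) = maximalIdeal T) :
    Algebra.IsGeometricallyReduced (ResidueField R) (ResidueField T) := by
  let f : ResidueField R ⊗[R] T →ₐ[ResidueField R] ResidueField T :=
    Algebra.TensorProduct.productLeftAlgHom (Algebra.ofId _ _) (IsScalarTower.toAlgHom R T (ResidueField T))
  have hf : ∀ t : T, f (1 ⊗ₜ t) = residue T t := fun t => by
    simp [f, ResidueField.algebraMap_eq]
  have hb : Function.Bijective f := by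
    refine ⟨(injective_iff_map_eq_zero _).2 fun x hx => ?_, fun y => ?_⟩
    · obtain ⟨t, rfl⟩ := TensorProduct.mk_surjective R T (ResidueField R) residue_surjective x
      change f (1 ⊗ₜ t) = 0 at hx
      rw [hf, residue_eq_zero_iff, ← h] at hx
      show (1 : ResidueField R) ⊗ₜ[R] t = 0
      refine Submodule.span_induction ?_ ?_ ?_ ?_ hx
      · rintro _ ⟨a, ha, rfl⟩
        rw [Algebra.algebraMap_eq_smul_one, ← TensorProduct.smul_tmul, Algebra.smul_def, mul_one,
          ResidueField.algebraMap_eq, (residue_eq_zero_iff a).2 ha, TensorProduct.zero_tmul]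
      · exact TensorProduct.tmul_zero _ _
      · rintro a b _ _ ha hb
        rw [TensorProduct.tmul_add, ha, hb, add_zero]
      · rintro c a _ ha
        rw [smul_eq_mul, show (1 : ResidueField R) ⊗ₜ[R] (c * a) = (1 ⊗ₜ c) * (1 ⊗ₜ a) by
          rw [Algebra.TensorProduct.tmul_mul_tmul, one_mul], ha, mul_zero]
    · obtain ⟨t, rfl⟩ := residue_surjective y
      exact ⟨1 ⊗ₜ t, hf t⟩
  haveI : Algebra.FormallySmooth (ResidueField R) (ResidueField T) :=
    Algebra.FormallySmooth.of_equiv (AlgEquiv.ofBijective f hb)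
  exact S2451.result.1 inferInstance

variable {X N : Scheme.{u}} (pX : X ⟶ Spec (CommRingCat.of R)) [Smooth pX]

/-- The strict henselization of the local ring at a codimension one point of the special fibre. -/
theorem exists_strict_nbhd_ring (x : X) (hx : pX x = closedPoint R)
    (hdim : ringKrullDim (X.presheaf.stalk x) ≤ 1) :
    ∃ (T : Type u) (_ : CommRing T) (_ : IsDomain T) (_ : IsDiscreteValuationRing T) (_ : Algebra R T)
      (_ : IsLocalHom (algebraMap R T)) (_ : HenselianLocalRing T) (_ : IsSepClosed (ResidueField T))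
      (j : X.presheaf.stalk x ⟶ CommRingCat.of T), IsLocalHom j.hom ∧ Function.Injective j.hom ∧
      (maximalIdeal R).map (algebraMap R T) = maximalIdeal T ∧
      Algebra.IsGeometricallyReduced (ResidueField R) (ResidueField T) ∧
      Spec.map j ≫ X.fromSpecStalk x ≫ pX = Spec.map (CommRingCat.ofHom (algebraMap R T)) := by
  haveI : IsLocallyNoetherian X := LocallyOfFiniteType.isLocallyNoetherian pX
  haveI : IsRegularLocalRing (X.presheaf.stalk x) := WeilExt.regular_of_smooth WeilExt.regular_spec pX x
  haveI : IsDomain (X.presheaf.stalk x) := RegLoc.isDomain _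
  obtain ⟨W, hW, hxW, -⟩ := exists_isAffineOpen_mem_and_subset (X := X) (x := x) (U := ⊤) trivial
  obtain ⟨φ, hφ⟩ := Spec.map_surjective (hW.fromSpec ≫ pX)
  have hsm : φ.hom.Smooth := by
    refine (HasRingHomProperty.Spec_iff (P := @Smooth)).1 ?_
    rw [hφ]
    infer_instance
  letI : Algebra R Γ(X, W) := φ.hom.toAlgebra
  haveI : Algebra.Smooth R Γ(X, W) := hsm
  letI : Algebra Γ(X, W) (X.presheaf.stalk x) := (X.presheaf.germ W x hxW).hom.toAlgebra
  haveI : IsLocalization.AtPrime (X.presheaf.stalk x) (hW.primeIdealOf ⟨x, hxW⟩).asIdeal :=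
    hW.isLocalization_stalk ⟨x, hxW⟩
  obtain ⟨ψ, hψ⟩ : ∃ ψ, Spec.map ψ = X.fromSpecStalk x ≫ pX := ⟨_, Spec.map_preimage _⟩
  letI : Algebra R (X.presheaf.stalk x) := ψ.hom.toAlgebra
  haveI : IsScalarTower R Γ(X, W) (X.presheaf.stalk x) := by
    refine IsScalarTower.of_algebraMap_eq' ?_
    have h : ψ = φ ≫ X.presheaf.germ W x hxW := by
      apply Spec.map_injective
      rw [hψ, Spec.map_comp, hφ, ← IsAffineOpen.fromSpecStalk_eq_fromSpecStalk hW hxW, IsAffineOpen.fromSpecStalk]
      exact Category.assoc _ _ _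
    exact congrArg CommRingCat.Hom.hom h
  haveI : IsLocalHom (algebraMap R (X.presheaf.stalk x)) := by
    have h1 : PrimeSpectrum.comap ψ.hom (closedPoint (X.presheaf.stalk x)) = closedPoint R := by
      refine ((congr($hψ (closedPoint (X.presheaf.stalk x)))).trans ?_)
      rw [Scheme.Hom.comp_apply, Scheme.fromSpecStalk_closedPoint, hx]
    refine ((local_hom_TFAE ψ.hom).out 4 0 rfl rfl).mp ?_
    exact congrArg PrimeSpectrum.asIdeal h1
  have hmA : (maximalIdeal R).map (algebraMap R (X.presheaf.stalk x)) = maximalIdeal (X.presheaf.stalk x) :=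
    map_maximalIdeal_localization Γ(X, W) (hW.primeIdealOf ⟨x, hxW⟩).asIdeal _ hdim
  haveI : Module.Flat R (X.presheaf.stalk x) := by
    haveI : Module.Flat Γ(X, W) (X.presheaf.stalk x) :=
      IsLocalization.flat _ (hW.primeIdealOf ⟨x, hxW⟩).asIdeal.primeCompl
    exact Module.Flat.trans R Γ(X, W) _
  haveI : Module.FaithfullyFlat R (X.presheaf.stalk x) := Module.FaithfullyFlat.of_flat_of_isLocalHom
  have hne : maximalIdeal (X.presheaf.stalk x) ≠ ⊥ := by
    rw [← hmA, Ne, Ideal.map_eq_bot_iff_of_injective (FaithfulSMul.algebraMap_injective R _)]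
    exact IsDiscreteValuationRing.not_a_field R
  obtain ⟨-, hval⟩ := RatExt.domain_valuationRing_of_regular ‹IsRegularLocalRing (X.presheaf.stalk x)› hdim
  have hdim1 : ringKrullDim (X.presheaf.stalk x) = 1 := by
    have h0 : ¬ ringKrullDim (X.presheaf.stalk x) ≤ 0 := fun h0 => by
      haveI : Ring.KrullDimLE 0 (X.presheaf.stalk x) := Ring.krullDimLE_iff.2 h0
      exact hne (IsLocalRing.isField_iff_maximalIdeal_eq.1 Ring.KrullDimLE.isField_of_isDomain)
    exact le_antisymm hdim (Order.succ_le_of_lt (not_le.1 h0))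
  let A := X.presheaf.stalk x
  obtain ⟨T, iC, iL, iA, hloc, hH⟩ : ∃ (T : Type u) (_ : CommRing T) (_ : IsLocalRing T) (_ : Algebra A T)
      (_ : IsLocalHom (algebraMap A T)), _root_.Hensel.IsStrictHenselization A T := by
    obtain ⟨hloc, hH⟩ := Hensel.exists_strictHenselization A
    exact ⟨_, inferInstance, inferInstance, inferInstance, hloc, hH⟩
  haveI := hloc
  haveI := hH
  haveI : HenselianLocalRing T := hH.henselian
  haveI : IsSepClosure (ResidueField A) (ResidueField T) := hH.isSepClosure
  haveI : IsSepClosed (ResidueField T) := IsSepClosure.sep_closed (ResidueField A)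
  haveI : IsNoetherianRing T := (Hensel.strictHenselization_isNoetherianRing_iff A T).1 inferInstance
  haveI : IsRegularLocalRing T := (Hensel.strictHenselization_isRegularLocalRing_iff A T).2 inferInstance
  haveI : IsDomain T := RegLoc.isDomain T
  obtain ⟨hd2, hdvr⟩ := (Hensel.dvr_iff T).2
    ⟨inferInstance, inferInstance, (Hensel.strictHenselization_ringKrullDim A T).trans hdim1⟩
  haveI := hdvr
  haveI := Hensel.strictHenselization_faithfullyFlat A T
  letI : Algebra R T := ((algebraMap A T).comp (algebraMap R A)).toAlgebra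
  haveI : IsScalarTower R A T := IsScalarTower.of_algebraMap_eq' rfl
  haveI : IsLocalHom (algebraMap R T) := RingHom.isLocalHom_comp (algebraMap A T) (algebraMap R A)
  have hmT : (maximalIdeal R).map (algebraMap R T) = maximalIdeal T := by
    rw [IsScalarTower.algebraMap_eq R A T, ← Ideal.map_map, hmA, Hensel.strictHenselization_map_maximalIdeal A T]
  haveI : Algebra.FormallySmooth Γ(X, W) A :=
    Algebra.FormallySmooth.of_isLocalization (hW.primeIdealOf ⟨x, hxW⟩).asIdeal.primeCompl
  haveI : Algebra.FormallySmooth R A := Algebra.FormallySmooth.comp R Γ(X, W) A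
  haveI : Algebra.FormallyEtale A T := Hensel.strictHenselization_formallyEtale A T
  haveI : Algebra.FormallySmooth R T := Algebra.FormallySmooth.comp R A T
  refine ⟨T, inferInstance, inferInstance, inferInstance, inferInstance, inferInstance, inferInstance,
    inferInstance, CommRingCat.ofHom (algebraMap A T), ?_, FaithfulSMul.algebraMap_injective A T, hmT,
    geometricallyReduced_residueField T hmT, ?_⟩
  · exact hloc
  · rw [← hψ, ← Spec.map_comp]
    rfl

theorem exists_fractionRing_lift (A : CommRingCat.{u}) [IsDomain A] {L : Type u} [Field L] (f : A →+* L)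
    (hf : Function.Injective f) : ∃ ι : CommRingCat.of (FractionRing A) ⟶ CommRingCat.of L,
      CommRingCat.ofHom (algebraMap A (FractionRing A)) ≫ ι = CommRingCat.ofHom f := by
  refine ⟨CommRingCat.ofHom (IsFractionRing.lift hf), CommRingCat.hom_ext (RingHom.ext fun r => ?_)⟩
  exact IsFractionRing.lift_algebraMap hf r

variable (pN : N ⟶ Spec (CommRingCat.of R)) [IsSeparated pN] [LocallyOfFiniteType pN]

/-- Extension near a point once a lift of it specializing from the generic point is given. -/
theorem exists_nhd_of_specializes (U : X.Opens) (hU : Dense (U : Set X)) (h : U.toScheme ⟶ N)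
    (hh : h ≫ pN = U.ι ≫ pX) (y₀ : ↥(pullback pN pX))
    [IsDomain (X.presheaf.stalk (pullback.snd pN pX y₀))] [X.IsGermInjectiveAt (pullback.snd pN pX y₀)]
    [ValuationRing (X.presheaf.stalk (pullback.snd pN pX y₀))]
    (eU : Spec (CommRingCat.of (FractionRing (X.presheaf.stalk (pullback.snd pN pX y₀)))) ⟶ U.toScheme)
    (heU : eU ≫ U.ι = genMap X (pullback.snd pN pX y₀))
    (hsp : (eU ≫ pullback.lift h U.ι hh) (closedPoint _) ⤳ y₀) :
    ∃ (W : X.Opens) (hUW : U ≤ W) (g : W.toScheme ⟶ N),
      pullback.snd pN pX y₀ ∈ W ∧ g ≫ pN = W.ι ≫ pX ∧ X.homOfLE hUW ≫ g = h := by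
  let q := pullback.snd pN pX
  let hP : U.toScheme ⟶ pullback pN pX := pullback.lift h U.ι hh
  obtain ⟨ψ, hψ⟩ := SectionExt.exists_fac_fromSpecStalk (eU ≫ hP) (x := (eU ≫ hP) (closedPoint _)) rfl
  let ν := (pullback pN pX).presheaf.stalkSpecializes hsp ≫ ψ
  have hν : Spec.map ν ≫ (pullback pN pX).fromSpecStalk y₀ = eU ≫ hP := by
    rw [Spec.map_comp, Category.assoc, Scheme.SpecMap_stalkSpecializes_fromSpecStalk hsp, hψ]
  have hνφ : ν.hom.comp (q.stalkMap y₀).hom =
      algebraMap (X.presheaf.stalk (q y₀)) (FractionRing (X.presheaf.stalk (q y₀))) := by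
    suffices q.stalkMap y₀ ≫ ν = CommRingCat.ofHom
        (algebraMap ↑(X.presheaf.stalk (q y₀)) (FractionRing ↑(X.presheaf.stalk (q y₀)))) from
      congrArg CommRingCat.Hom.hom this
    apply Spec.map_injective
    rw [← cancel_mono (X.fromSpecStalk (q y₀)), Spec.map_comp, Category.assoc,
      Scheme.SpecMap_stalkMap_fromSpecStalk, reassoc_of% hν]
    show eU ≫ hP ≫ q = _
    rw [pullback.lift_snd]
    exact heU
  haveI : IsLocalHom (q.stalkMap y₀).hom := inferInstance
  obtain ⟨σ, hσ₁, hσ₂, hσ₃⟩ := exists_retraction (q.stalkMap y₀).hom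
    (algebraMap (X.presheaf.stalk (q y₀)) (FractionRing (X.presheaf.stalk (q y₀))))
    (IsFractionRing.injective _ _) ν.hom hνφ (range_le_of_valuationRing _ _ hνφ)
  haveI := hσ₃
  haveI : IsSeparated ((⊤ : (pullback pN pX).Opens).ι ≫ q) := inferInstance
  obtain ⟨U', hUU', hxU', h', h1, h2, -⟩ := exists_extension q U hU hP (pullback.lift_snd _ _ _) y₀ σ
    hσ₁ eU heU
    (by rw [show CommRingCat.ofHom ((algebraMap _ _).comp σ) = ν from CommRingCat.hom_ext hσ₂]; exact hν)
    ⊤ trivial ⊤ trivial (fun _ _ => trivial)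
  refine ⟨U', hUU', h' ≫ pullback.fst pN pX, hxU', ?_, ?_⟩
  · rw [Category.assoc, pullback.condition, reassoc_of% h1]
  · rw [reassoc_of% h2, pullback.lift_fst]

/-- Extension at a codimension one point from points of strictly henselian extensions. -/
theorem exists_nhd_of_points
    (hpts : ∀ (R' : Type u) [CommRing R'] [IsDomain R'] [IsDiscreteValuationRing R'] [Algebra R R']
      [IsLocalHom (algebraMap R R')] [HenselianLocalRing R'] [IsSepClosed (ResidueField R')],
      (maximalIdeal R).map (algebraMap R R') = maximalIdeal R' →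
      Algebra.IsGeometricallyReduced (ResidueField R) (ResidueField R') →
      ∀ a : Spec (CommRingCat.of (FractionRing R')) ⟶ N,
        a ≫ pN = Spec.map (CommRingCat.ofHom ((algebraMap R' (FractionRing R')).comp (algebraMap R R'))) →
        ∃ t : Spec (CommRingCat.of R') ⟶ N, t ≫ pN = Spec.map (CommRingCat.ofHom (algebraMap R R')) ∧
          Spec.map (CommRingCat.ofHom (algebraMap R' (FractionRing R'))) ≫ t = a)
    (U : X.Opens) (hU : Dense (U : Set X)) (hUs : (U : Set X) = pX ⁻¹' Set.range (Neron.genPt R))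
    (h : U.toScheme ⟶ N) (hh : h ≫ pN = U.ι ≫ pX) (x : X) (hdim : ringKrullDim (X.presheaf.stalk x) ≤ 1) :
    ∃ (W : X.Opens) (hUW : U ≤ W) (g : W.toScheme ⟶ N),
      x ∈ W ∧ g ≫ pN = W.ι ≫ pX ∧ X.homOfLE hUW ≫ g = h := by
  by_cases hxU : x ∈ U
  · exact ⟨U, le_rfl, h, hxU, hh, by rw [Scheme.homOfLE_rfl, Category.id_comp]⟩
  haveI : IsLocallyNoetherian X := LocallyOfFiniteType.isLocallyNoetherian pX
  have hreg : ∀ y : X, IsRegularLocalRing (X.presheaf.stalk y) :=
    WeilExt.regular_of_smooth WeilExt.regular_spec pX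
  haveI : IsReduced X := WeilExt.isReduced_of_regular hreg
  obtain ⟨hdom, hval⟩ := RatExt.domain_valuationRing_of_regular (hreg x) hdim
  have hxs : pX x = closedPoint R := by
    by_contra hne
    refine hxU (hUs.ge ⟨closedPoint (FractionRing R), PrimeSpectrum.ext ?_⟩)
    have h0 : (pX x).asIdeal = ⊥ := by
      by_contra h0
      exact hne (PrimeSpectrum.ext (IsLocalRing.eq_maximalIdeal ((pX x).isPrime.isMaximal h0)))
    rw [h0]
    show (closedPoint (FractionRing R)).asIdeal.comap (algebraMap R (FractionRing R)) = ⊥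
    rw [show (closedPoint (FractionRing R)).asIdeal = maximalIdeal _ from rfl, IsLocalRing.maximalIdeal_eq_bot,
      Ideal.comap_bot_of_injective _ (IsFractionRing.injective R _)]
  obtain ⟨T, _, _, _, _, _, _, _, j, hjloc, hjinj, hmT, hgr, hj⟩ := exists_strict_nbhd_ring pX x hxs hdim
  let L := FractionRing T
  let eU := IsOpenImmersion.lift U.ι (genMap X x) (by
    rw [Scheme.Opens.range_ι]; exact range_genMap_subset x U hU)
  have heU : eU ≫ U.ι = genMap X x := IsOpenImmersion.lift_fac _ _ _
  let hP : U.toScheme ⟶ pullback pN pX := pullback.lift h U.ι hh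
  have hiinj : Function.Injective ((algebraMap T L).comp j.hom) := (IsFractionRing.injective T L).comp hjinj
  obtain ⟨ι, hι⟩ := exists_fractionRing_lift (X.presheaf.stalk x) ((algebraMap T L).comp j.hom) hiinj
  have hιgen : Spec.map ι ≫ genMap X x =
      Spec.map (CommRingCat.ofHom (algebraMap T L)) ≫ Spec.map j ≫ X.fromSpecStalk x := by
    show Spec.map ι ≫ Spec.map (CommRingCat.ofHom _) ≫ X.fromSpecStalk x = _
    rw [← Category.assoc, ← Spec.map_comp, hι, CommRingCat.ofHom_comp, Spec.map_comp, Category.assoc]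
    rfl
  obtain ⟨t, ht, htL⟩ := hpts T hmT hgr (Spec.map ι ≫ eU ≫ h) (by
    rw [Category.assoc, Category.assoc, hh, reassoc_of% heU, reassoc_of% hιgen, hj, ← Spec.map_comp]
    rfl)
  let τ : Spec (CommRingCat.of T) ⟶ pullback pN pX :=
    pullback.lift t (Spec.map j ≫ X.fromSpecStalk x) (by rw [ht, Category.assoc, hj])
  have hτ : Spec.map (CommRingCat.ofHom (algebraMap T L)) ≫ τ = Spec.map ι ≫ eU ≫ hP := by
    apply pullback.hom_ext
    · simp [τ, hP, htL, L]
    · simp [τ, hP, heU, hιgen, L]
  obtain ⟨y₀, hy₀⟩ : ∃ y₀, τ (closedPoint T) = y₀ := ⟨_, rfl⟩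
  have hqy : pullback.snd pN pX y₀ = x := by
    rw [← hy₀, ← Scheme.Hom.comp_apply, pullback.lift_snd, Scheme.Hom.comp_apply,
      show (Spec.map j) (closedPoint T) = closedPoint _ from
        (haveI := hjloc; IsLocalRing.comap_closedPoint j.hom),
      Scheme.fromSpecStalk_closedPoint]
  have hsp : (eU ≫ hP) (closedPoint _) ⤳ y₀ := by
    have h1 := congr($hτ (closedPoint L))
    rw [Scheme.Hom.comp_apply, Scheme.Hom.comp_apply] at h1
    rw [show (Spec.map ι) (closedPoint L) = closedPoint _ from Subsingleton.elim _ _] at h1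
    rw [← h1, ← hy₀]
    exact (IsLocalRing.specializes_closedPoint _).map τ.continuous
  clear hy₀ hτ τ ht htL t hι hιgen
  clear_value eU
  subst hqy
  haveI := hdom
  haveI := hval
  have key := exists_nhd_of_specializes pX pN U hU h hh y₀ eU heU hsp
  exact key

/-- The Neron mapping property from points over strictly henselian extensions of index one. -/
theorem exists_extension_of_points [GrpObj (Over.mk pN)]
    (hpts : ∀ (R' : Type u) [CommRing R'] [IsDomain R'] [IsDiscreteValuationRing R'] [Algebra R R']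
      [IsLocalHom (algebraMap R R')] [HenselianLocalRing R'] [IsSepClosed (ResidueField R')],
      (maximalIdeal R).map (algebraMap R R') = maximalIdeal R' →
      Algebra.IsGeometricallyReduced (ResidueField R) (ResidueField R') →
      ∀ a : Spec (CommRingCat.of (FractionRing R')) ⟶ N,
        a ≫ pN = Spec.map (CommRingCat.ofHom ((algebraMap R' (FractionRing R')).comp (algebraMap R R'))) →
        ∃ t : Spec (CommRingCat.of R') ⟶ N, t ≫ pN = Spec.map (CommRingCat.ofHom (algebraMap R R')) ∧
          Spec.map (CommRingCat.ofHom (algebraMap R' (FractionRing R'))) ≫ t = a)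
    (w : pullback pX (Neron.genPt R) ⟶ N) (hw : w ≫ pN = pullback.fst pX (Neron.genPt R) ≫ pX) :
    ∃ g : X ⟶ N, g ≫ pN = pX ∧ pullback.fst pX (Neron.genPt R) ≫ g = w := by
  haveI := Castel.isOpenImmersion_genPt (R := R)
  let E := pullback.fst pX (Neron.genPt R)
  let U := E.opensRange
  have hUs : (U : Set X) = pX ⁻¹' Set.range (Neron.genPt R) :=
    Scheme.Pullback.range_fst pX (Neron.genPt R)
  have hU : Dense (U : Set X) := fun y => by
    obtain ⟨y', hy', hy''⟩ := Flat.generalizingMap pX
      ((PrimeSpectrum.le_iff_specializes (⊥ : PrimeSpectrum R) (pX y)).1 bot_le)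
    refine closure_mono (Set.singleton_subset_iff.2 (hUs.ge ?_)) hy'.mem_closure
    refine ⟨closedPoint (FractionRing R), PrimeSpectrum.ext ?_⟩
    rw [hy'']
    show (closedPoint (FractionRing R)).asIdeal.comap (algebraMap R (FractionRing R)) = ⊥
    rw [show (closedPoint (FractionRing R)).asIdeal = maximalIdeal _ from rfl, IsLocalRing.maximalIdeal_eq_bot,
      Ideal.comap_bot_of_injective _ (IsFractionRing.injective R _)]
  let h : U.toScheme ⟶ N := E.isoOpensRange.inv ≫ w
  have hh : h ≫ pN = U.ι ≫ pX := by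
    rw [Category.assoc, hw, Scheme.Hom.isoOpensRange_inv_comp_assoc]
  haveI : IsLocallyNoetherian X := LocallyOfFiniteType.isLocallyNoetherian pX
  haveI : IsReduced X := WeilExt.isReduced_of_regular (WeilExt.regular_of_smooth WeilExt.regular_spec pX)
  have key : ∀ x : {x : X // ringKrullDim (X.presheaf.stalk x) ≤ 1}, ∃ (W : X.Opens) (hUW : U ≤ W)
      (g : W.toScheme ⟶ N), x.1 ∈ W ∧ g ≫ pN = W.ι ≫ pX ∧ X.homOfLE hUW ≫ g = h :=
    fun x => exists_nhd_of_points pX pN hpts U hU hUs h hh x.1 x.2
  choose W hUW g hxW hg hres using key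
  obtain ⟨U', hUU', h', h1, h2, h3⟩ := RatExt.exists_glue_family pN pX U hU h hh W hUW g hg hres
  obtain ⟨G, ⟨hG₁, hG₂⟩, -⟩ := WeilExt.existsUnique_scheme pX pN U' (fun x => by
    obtain ⟨m, hmx, hm, hdim⟩ := WeilExt.exists_fibre_generic pX x
    exact closure_mono (Set.singleton_subset_iff.2
      (show m ∈ (U' : Set X) ∩ {y | pX y = pX x} from ⟨h3 ⟨m, hdim⟩ (hxW ⟨m, hdim⟩), hm⟩)) hmx.mem_closure)
    (fun x hx => h3 ⟨x, hx⟩ (hxW ⟨x, hx⟩)) h' h1
  refine ⟨G, hG₁, ?_⟩
  show E ≫ G = w
  rw [show E = E.isoOpensRange.hom ≫ X.homOfLE hUU' ≫ U'.ι by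
    rw [Scheme.homOfLE_ι, Scheme.Hom.isoOpensRange_hom_ι]]
  rw [Category.assoc, Category.assoc, hG₂, h2, Iso.hom_inv_id_assoc]

end Groth.Agent.NeronCrit
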